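import Groth.Agent.Biell.K665.GenOne
import Groth.Agent.Biell.K856.PicA3
import Groth.Agent.AbVar.K510.AVPts
import Groth.Agent.PicF.K247.AbelSurj
import Groth.Agent.Dix.InterSurf
import Groth.Agent.S1530
import Groth.Agent.S1184
import Groth.Agent.Pi1.H538.RelDimOne

/-!
# Endomorphisms of a curve of genus one do not move an ample class transitively

* `pull_pcl`: if `h⁻¹{P} = {R}` then `h^* O(-P) = O(-R)^e` with `e > 0`;
* `exists_pow_eq`: the classes of degree zero on a smooth proper curve form a divisible group;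
* `no_transitive` (node A of the proof that `H²(X, O) = 0` for bielliptic surfaces).
-/

set_option autoImplicit false
universe u
open CategoryTheory CategoryTheory.Limits AlgebraicGeometry Opposite TopologicalSpace
open MonoidalCategory CartesianMonoidalCategory MonObj

namespace K115.NodeA

open Groth.Agent Groth.Agent.Grpsch.PicGrp K532.CurvePic K532.CurvePts K665.GenOne
open Groth.Agent.Fga.JacFactor Groth.Agent.Divis.EffCartier Groth.Agent.Pic13.H138.AlgEquiv

theorem dcl_pow {Y : Scheme.{u}} {D : Y.IdealSheafData} (hD : BlowUp.IsEffCartierIdeal D) (n : ℕ) :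
    dcl (D ^ n) (isEff_pow hD n) = dcl D hD ^ n := by
  induction n with
  | zero =>
    exact ((dcl_congr (pow_zero D) _).trans dcl_top).trans (pow_zero (dcl D hD)).symm
  | succ n ih =>
    refine (dcl_congr (pow_succ D n) _).trans ?_
    rw [pow_succ (dcl D hD), ← ih, ← dcl_mul]

variable {k : Type u} [Field k] [IsAlgClosed k] {F : Scheme.{u}} [F.Over (Spec (CommRingCat.of k))]

theorem exists_kpt_of_isClosed (hE : IsCurve k F) (x : F) (hx : IsClosed ({x} : Set F)) :
    ∃ P : KPt k F, pnt P = x := by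
  have := hE.proper
  refine ⟨(pointEquivClosedPoint (F ↘ Spec (CommRingCat.of k))).symm ⟨x, hx⟩, ?_⟩
  exact congrArg Subtype.val ((pointEquivClosedPoint (F ↘ Spec (CommRingCat.of k))).apply_symm_apply ⟨x, hx⟩)

/-- The inverse image of a point is a multiple of a point. -/
theorem pull_pcl (hE : IsCurve k F) (h : F ⟶ F) (P R : KPt k F)
    (hh : h ⁻¹' {pnt P} = {pnt R}) : ∃ e : ℕ, 0 < e ∧ pull h (pcl hE P) = pcl hE R ^ e := by
  have hp := hE.proper
  have hi := hE.integral
  have hsm := hE.smooth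
  let f := F ↘ Spec (CommRingCat.of k)
  have hrel : SmoothOfRelativeDimension 1 f := Fga.JacAlg.smoothOfRelDim hE.curve
  have hmem : ∀ y : F, y ∈ (P.1.ker.comap h).support ↔ y = pnt R := by
    intro y
    rw [Scheme.IdealSheafData.support_comap]
    change h y ∈ (P.1.ker.support : Set F) ↔ _
    rw [support_ker hE P]
    have : y ∈ h ⁻¹' {pnt P} ↔ y ∈ ({pnt R} : Set F) := by rw [hh]
    exact this
  have hgen : genericPoint F ≠ pnt R := by
    intro h1
    obtain ⟨y, hy⟩ := exists_pt_notMem hE {R}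
    have h3 : pnt y ∈ closure {genericPoint F} := by
      rw [show closure {genericPoint F} = (Set.univ : Set F) from genericPoint_spec F]; trivial
    rw [h1, (isClosed_pnt hE R).closure_eq] at h3
    have h2 : pnt y = pnt R := h3
    exact hy (by rw [KPt.ext' hE h2]; exact Finset.mem_singleton_self _)
  have hJ : BlowUp.IsEffCartierIdeal (P.1.ker.comap h) := by
    refine Dix.InterSurf.isEff_comap_of_generic h (isEff hE P) ?_
    intro hm
    apply hgen
    rw [← hmem, Scheme.IdealSheafData.support_comap]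
    exact hm
  have hflat : Flat ((P.1.ker.comap h).subschemeι ≫ f) := by
    have : Flat f := inferInstance
    infer_instance
  obtain ⟨hq, -, hlfp⟩ := (Groth.Agent.S1184.result f (P.1.ker.comap h)).1.1 ⟨hJ, hflat⟩
  have hfin : Mor2.IsFinLocFree ((P.1.ker.comap h).subschemeι ≫ f) :=
    ⟨IsFinite.of_isProper_of_locallyQuasiFinite _, hflat, hlfp⟩
  let τ : Spec (CommRingCat.of k) := (default : PrimeSpectrum k)
  obtain ⟨s, hs⟩ := factor (Iso.refl (Spec (CommRingCat.of k))) f
    (((P.1.ker.comap h).subschemeι ≫ f).finrank τ) (P.1.ker.comap h)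
    ⟨hfin, fun y => by rw [Subsingleton.elim (α := PrimeSpectrum k) y τ]⟩
  have hsR : ∀ i, (s i).1 = R.1 := by
    intro i
    have h1 : pnt (⟨(s i).1, (s i).2⟩ : KPt k F) ∈ (P.1.ker.comap h).support := by
      rw [hs, ← Finset.mul_prod_erase Finset.univ _ (Finset.mem_univ i), Scheme.IdealSheafData.support_mul]
      have h3 : ((s i).1.ker.support : Set F) = {pnt (⟨(s i).1, (s i).2⟩ : KPt k F)} :=
        support_ker hE ⟨(s i).1, (s i).2⟩
      refine Or.inl ?_
      have h5 : pnt (⟨(s i).1, (s i).2⟩ : KPt k F) ∈ ((s i).1.ker.support : Set F) := by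
        rw [h3]; exact Set.mem_singleton _
      exact h5
    exact congrArg Subtype.val (KPt.ext' hE ((hmem _).1 h1))
  have hpow : P.1.ker.comap h = R.1.ker ^ (((P.1.ker.comap h).subschemeι ≫ f).finrank τ) := by
    conv_lhs => rw [hs]
    rw [Finset.prod_congr rfl fun i _ => by rw [hsR i], Finset.prod_const, Finset.card_univ, Fintype.card_fin]
  refine ⟨((P.1.ker.comap h).subschemeι ≫ f).finrank τ, ?_, ?_⟩
  · rw [Nat.pos_iff_ne_zero]
    intro h0
    rw [h0, pow_zero, Scheme.IdealSheafData.one_eq_top] at hpow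
    have h1 := (hmem (pnt R)).2 rfl
    rw [hpow, Scheme.IdealSheafData.support_top] at h1
    exact h1
  · rw [pcl, pcl, ← dcl_pow, dcl, pull_mk]
    rw [← dcl_congr hpow hJ]
    exact (mk_eq_iff _ _).2 (Dix.IdealModCartier.pullback_idealMod h (isEff hE P) hJ)

/-- Classes of degree zero on a smooth proper curve are divisible. -/
theorem exists_pow_eq (hE : IsCurve k F) (n : ℕ) (hn : 1 ≤ n) (c : Pic F) (hc : deg k F c = 0) :
    ∃ b : Pic F, b ^ n = c := by
  have hp := hE.proper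
  have hi := hE.integral
  have hsm := hE.smooth
  obtain ⟨L, hL, rfl⟩ := exists_mk c
  have h1 : mk L hL ∈ alg0 k F := K247.AbelSurj.algEq hE.dim hL hc
  have hH : ∃ H : F.Modules, CohB1.IsAmple H := by
    obtain ⟨x, -⟩ := exists_pt_notMem hE ∅
    obtain ⟨M, hM, hM'⟩ := exists_mk (pcl hE x)⁻¹
    refine ⟨M, (Groth.Agent.S1530.result k F hE.dim M hM).2 ?_⟩
    rw [← deg_mk k F hE.dim hM, ← hM', deg_inv hE, deg_pcl]
    norm_num
  obtain ⟨D⟩ := K856.PicA.nonempty_pz k F hH
  have hDp := D.isProper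
  have hDg : GeometricallyIntegral D.A.hom := K856.PicA.geometricallyIntegral k D.A.left D.A.hom
  obtain ⟨a, ha⟩ := D.exists_of_mem h1
  obtain ⟨b, hb⟩ := K510.AVPts.exists_pow_eq D.A n hn a
  refine ⟨D.θ b, ?_⟩
  rw [← map_pow, ← ha]
  exact congrArg D.θ hb

/-- Node A. -/
theorem no_transitive (k : Type u) [Field k] [IsAlgClosed k] (F : Scheme.{u})
    [F.Over (Spec (CommRingCat.of k))] [IsIntegral F] [IsProper (F ↘ Spec (CommRingCat.of k))]
    [SmoothOfRelativeDimension 1 (F ↘ Spec (CommRingCat.of k))]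
    (h1 : Module.finrank k (Coh.HH F (Coh.structureModule F) 1) = 1)
    (L : F.Modules) (hL : CohB1.IsAmple L) (M : Pic F)
    (H : ∀ P R : F, IsClosed ({P} : Set F) → IsClosed ({R} : Set F) → R ≠ P →
      ∃ h : F ⟶ F, h ≫ (F ↘ Spec (CommRingCat.of k)) = F ↘ Spec (CommRingCat.of k) ∧
        h ⁻¹' {P} = {R} ∧ pull h (mk L hL.1) = M) : False := by
  have hsm : Smooth (F ↘ Spec (CommRingCat.of k)) := SmoothOfRelativeDimension.smooth 1 _
  have hdim : topologicalKrullDim F = 1 := by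
    exact_mod_cast Pi1.H538.RelDimOne.topologicalKrullDim_eq k F (F ↘ Spec (CommRingCat.of k)) 1
  have hE : IsCurve k F := isCurve_of_isAlgClosed k F ⟨inferInstance, hsm, inferInstance, hdim⟩
  have hg : gen k F = 1 := by
    have := gen_eq k F
    rw [h1] at this
    exact_mod_cast this
  have hdeg : 0 < deg k F (mk L hL.1) := by
    rw [deg_mk k F hdim]
    exact (Groth.Agent.S1530.result k F hdim L hL.1).1 hL
  obtain ⟨d, hd⟩ : ∃ d : ℕ, deg k F (mk L hL.1) = d := ⟨_, (Int.toNat_of_nonneg hdeg.le).symm⟩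
  have hd0 : 0 < d := by
    rw [hd] at hdeg
    exact_mod_cast hdeg
  -- a root of `L`
  obtain ⟨Q, -⟩ := exists_pt_notMem hE ∅
  obtain ⟨b, hb⟩ := exists_pow_eq hE d hd0 (mk L hL.1 * pcl hE Q ^ d) (by
    rw [deg_mul hE, deg_pow hE, deg_pcl, hd]; ring)
  have hb0 : deg k F b = 0 := by
    have h2 : deg k F (b ^ d) = 0 := by
      rw [hb, deg_mul hE, deg_pow hE, deg_pcl, hd]; ring
    rw [deg_pow hE] at h2
    rcases mul_eq_zero.1 h2 with h3 | h3
    · exact absurd h3 (by exact_mod_cast hd0.ne')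
    · exact h3
  obtain ⟨P, hP⟩ := exists_pt hE hg (c := b * (pcl hE Q)⁻¹) (by
    rw [deg_mul hE, deg_inv hE, deg_pcl, hb0]; ring)
  have hLP : mk L hL.1 = (pcl hE P)⁻¹ ^ d := by
    rw [← hP, mul_pow, hb, inv_pow, mul_inv_cancel_right]
  -- the class `M`
  have hM : ∀ R : KPt k F, R ≠ P → ∃ e : ℕ, 0 < e ∧ M = (pcl hE R)⁻¹ ^ (e * d) := by
    intro R hR
    obtain ⟨h, -, hh, hhM⟩ := H (pnt P) (pnt R) (isClosed_pnt hE P) (isClosed_pnt hE R)
      (fun hPR => hR (KPt.ext' hE hPR))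
    obtain ⟨e, he, hpe⟩ := pull_pcl hE h P R hh
    refine ⟨e, he, ?_⟩
    rw [← hhM, hLP, map_pow, map_inv, hpe, pow_mul, inv_pow, inv_pow, inv_pow]
  obtain ⟨m, hm0, hm⟩ : ∃ m : ℕ, 0 < m ∧ ∀ R : KPt k F, R ≠ P → M = (pcl hE R)⁻¹ ^ m := by
    obtain ⟨R₀, hR₀⟩ := exists_pt_notMem hE {P}
    obtain ⟨e₀, he₀, hM₀⟩ := hM R₀ (by simpa using hR₀)
    refine ⟨e₀ * d, Nat.mul_pos he₀ hd0, fun R hR => ?_⟩
    obtain ⟨e, he, hMe⟩ := hM R hR
    have h2 := congrArg (deg k F) (hMe.symm.trans hM₀)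
    rw [deg_pow hE, deg_pow hE, deg_inv hE, deg_inv hE, deg_pcl, deg_pcl] at h2
    have h3 : e * d = e₀ * d := by
      have : ((e * d : ℕ) : ℤ) = ((e₀ * d : ℕ) : ℤ) := by linarith
      exact_mod_cast this
    rw [hMe, h3]
  have key : ∀ R R' : KPt k F, R ≠ P → R' ≠ P → (pcl hE R * (pcl hE R')⁻¹) ^ m = 1 := by
    intro R R' hR hR'
    have h2 := (hm R hR).symm.trans (hm R' hR')
    rw [mul_pow, ← h2, ← mul_pow, mul_inv_cancel, one_pow]
  -- every class of degree zero is killed by `m`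
  have hkill : ∀ c : Pic F, deg k F c = 0 → c ^ m = 1 := by
    classical
    intro c hc
    obtain ⟨Q₁, hQ₁⟩ := exists_pt_notMem hE {P}
    obtain ⟨Q₂, hQ₂⟩ := exists_pt_notMem hE {P, Q₁}
    have hQ₁' : Q₁ ≠ P := by simpa using hQ₁
    rw [Finset.mem_insert, Finset.mem_singleton, not_or] at hQ₂
    obtain ⟨x, hx⟩ := exists_pt hE hg (c := c * (pcl hE Q₁)⁻¹) (by
      rw [deg_mul hE, deg_inv hE, deg_pcl, hc]; ring)
    obtain ⟨y, hy⟩ := exists_pt hE hg (c := c * (pcl hE Q₂)⁻¹) (by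
      rw [deg_mul hE, deg_inv hE, deg_pcl, hc]; ring)
    have hx' : c = pcl hE Q₁ * (pcl hE x)⁻¹ := by
      rw [← hx, mul_comm c, mul_inv_cancel_left]
    have hy' : c = pcl hE Q₂ * (pcl hE y)⁻¹ := by
      rw [← hy, mul_comm c, mul_inv_cancel_left]
    by_cases hxP : x = P
    · by_cases hyP : y = P
      · exfalso
        rw [hxP] at hx'
        rw [hyP] at hy'
        have h2 := hx'.symm.trans hy'
        rw [mul_left_inj] at h2
        exact hQ₂.2 (pcl_injective hE hg h2).symm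
      · rw [hy']
        exact key Q₂ y hQ₂.1 hyP
    · rw [hx']
      exact key Q₁ x hQ₁' hxP
  obtain ⟨c, hc0, hc1, -⟩ := exists_deg_zero hE hg 1
  obtain ⟨b', hb'⟩ := exists_pow_eq hE m hm0 c hc0
  apply hc1
  rw [← hb']
  apply hkill
  have h2 : deg k F (b' ^ m) = 0 := by rw [hb', hc0]
  rw [deg_pow hE] at h2
  rcases mul_eq_zero.1 h2 with h3 | h3
  · exact absurd h3 (by exact_mod_cast hm0.ne')
  · exact h3

end K115.NodeA
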